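import Mathlib
import Cfsg.Agent.S0144
import Cfsg.Agent.FGS.SolvRad
import Cfsg.Agent.FGS.PrimePart
import Cfsg.Agent.Grp.MinNormal
import Cfsg.Agent.Transfer.PCompl

/-! Groups in which biprimary subgroups have maximal normalizers: generalities. -/

set_option autoImplicit false
set_option linter.unusedSectionVars false

namespace Cfsg.Agent.MaxN

open Subgroup

local notation "𝐍[" H "]" => Subgroup.normalizer (SetLike.coe H)

/-- `n` has at most two prime divisors. -/
def Bip (n : ℕ) : Prop :=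
  ∃ p q : ℕ, p.Prime ∧ q.Prime ∧ ∀ r : ℕ, r.Prime → r ∣ n → r = p ∨ r = q

theorem Bip.of_primes {m n : ℕ} (h : Bip n) (hm : ∀ r : ℕ, r.Prime → r ∣ m → r ∣ n) : Bip m := by
  obtain ⟨p, q, hp, hq, h⟩ := h
  exact ⟨p, q, hp, hq, fun r hr hr' => h r hr (hm r hr hr')⟩

theorem Bip.of_dvd {m n : ℕ} (h : Bip n) (hm : m ∣ n) : Bip m :=
  h.of_primes fun _ _ hr => hr.trans hm

theorem bip_mul {p q : ℕ} (hp : p.Prime) (hq : q.Prime) (a b : ℕ) : Bip (p ^ a * q ^ b) :=
  ⟨p, q, hp, hq, fun _ hr h => ((Nat.Prime.dvd_mul hr).1 h).imp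
    (fun h => (Nat.prime_dvd_prime_iff_eq hr hp).1 (hr.dvd_of_dvd_pow h))
    fun h => (Nat.prime_dvd_prime_iff_eq hr hq).1 (hr.dvd_of_dvd_pow h)⟩

theorem bip_pow {p : ℕ} (hp : p.Prime) (a : ℕ) : Bip (p ^ a) :=
  (bip_mul hp hp a 0).of_dvd (by simp)

theorem Bip.eq_mul {n : ℕ} (h : Bip n) (hn : n ≠ 0) :
    ∃ p q a b : ℕ, p.Prime ∧ q.Prime ∧ n = p ^ a * q ^ b := by
  obtain ⟨p, q, hp, hq, h⟩ := h
  obtain ⟨a, m, hm, rfl⟩ := Nat.exists_eq_pow_mul_and_not_dvd hn p hp.ne_one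
  refine ⟨p, q, a, m.primeFactorsList.length, hp, hq, ?_⟩
  congr 1
  refine Nat.eq_prime_pow_of_unique_prime_dvd (right_ne_zero_of_mul hn) fun {r} hr hr' => ?_
  exact (h r hr (hr'.mul_left _)).resolve_left fun e => hm (e ▸ hr')

variable {G : Type*} [Group G] [Finite G]

theorem isSolvable_of_bip (h : Bip (Nat.card G)) : Group.IsSolvable G := by
  obtain ⟨p, q, a, b, hp, hq, e⟩ := h.eq_mul Nat.card_pos.ne'
  exact S0144.result p q a b hp hq e

theorem bip_of_isPGroup {p : ℕ} (hp : p.Prime) (h : IsPGroup p G) : Bip (Nat.card G) := by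
  have := Fact.mk hp
  obtain ⟨n, e⟩ := IsPGroup.iff_card.1 h
  exact e ▸ bip_pow hp n

theorem bip_zpowers {p k : ℕ} (hp : p.Prime) {a : G} (h : a ^ p ^ k = 1) :
    Bip (Nat.card (zpowers a)) := by
  rw [Nat.card_zpowers]
  exact (bip_pow hp k).of_dvd (orderOf_dvd_of_pow_eq_one h)

theorem bip_zpowers_mul {p q k l : ℕ} (hp : p.Prime) (hq : q.Prime) {a b : G} (hc : Commute a b)
    (ha : a ^ p ^ k = 1) (hb : b ^ q ^ l = 1) : Bip (Nat.card (zpowers (a * b))) := by
  rw [Nat.card_zpowers]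
  refine (bip_mul hp hq k l).of_dvd (orderOf_dvd_of_pow_eq_one ?_)
  rw [hc.mul_pow, pow_mul, ha, one_pow, one_mul, mul_comm, pow_mul, hb, one_pow]

/-- A subgroup of the image lifts to a subgroup with the same prime divisors. -/
theorem exists_lift {Q : Type*} [Group Q] (f : G →* Q) {H : Subgroup Q} (hH : H ≤ f.range) :
    ∃ H₀ : Subgroup G, H₀.map f = H ∧ ∀ r : ℕ, r.Prime → r ∣ Nat.card H₀ → r ∣ Nat.card H := by
  obtain ⟨H₀, h₀, hmin⟩ := WellFounded.has_min (wellFounded_lt (α := Subgroup G))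
    {K | K.map f = H} ⟨H.comap f, map_comap_eq_self hH⟩
  refine ⟨H₀, h₀, fun r hr hd => ?_⟩
  by_contra hnd
  have := Fact.mk hr
  obtain ⟨P⟩ : Nonempty (Sylow r H₀) := inferInstance
  have key : ∀ T : Subgroup H₀, T ⊔ f.ker.subgroupOf H₀ = ⊤ → T = ⊤ := by
    intro T hT
    have e : (T.map H₀.subtype).map f = H := by
      refine le_antisymm ((map_mono (map_subtype_le T)).trans h₀.le) ?_
      rw [← h₀]
      rintro _ ⟨x, hx, rfl⟩
      have : (⟨x, hx⟩ : H₀) ∈ T ⊔ f.ker.subgroupOf H₀ := hT ▸ mem_top _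
      rw [← SetLike.mem_coe, mul_normal] at this
      obtain ⟨a, ha, b, hb, e⟩ := this
      refine ⟨a, ⟨a, ha, rfl⟩, ?_⟩
      have e' : x = a * b := congrArg Subtype.val e.symm
      rw [e', map_mul, show f b = 1 from hb, mul_one]
    have : T.map H₀.subtype = H₀ :=
      (map_subtype_le T).eq_of_not_lt (hmin _ e)
    exact map_injective H₀.subtype_injective (by rw [this, ← MonoidHom.range_eq_map, range_subtype])
  have hP : (P : Subgroup H₀) ≤ f.ker.subgroupOf H₀ := by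
    intro x hx
    obtain ⟨k, hk⟩ := P.isPGroup' ⟨x, hx⟩
    have h1 : f x ^ r ^ k = 1 := by
      rw [← map_pow, show (x : G) ^ r ^ k = 1 from congrArg (fun y : P => ((y : H₀) : G)) hk,
        map_one]
    have h2 : orderOf (f x) ∣ Nat.card H := by
      have : f x ∈ H := h₀ ▸ mem_map_of_mem f x.2
      exact H.orderOf_dvd_natCard this
    have h3 := orderOf_dvd_of_pow_eq_one h1
    exact orderOf_eq_one_iff.1 (Nat.eq_one_of_dvd_coprimes
      (((Nat.Prime.coprime_iff_not_dvd hr).2 hnd).pow_left k) h3 h2)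
  have hn : (P : Subgroup H₀).Normal :=
    normalizer_eq_top_iff.1 (key _ (Sylow.normalizer_sup_eq_top' P hP))
  obtain ⟨C, hC⟩ := exists_right_complement'_of_coprime (N := (P : Subgroup H₀)) P.card_coprime_index
  have hC' : C = ⊤ := key C (top_unique (by
    rw [← hC.sup_eq_top, sup_comm]
    exact sup_le_sup_left hP _))
  have h1 : (P : Subgroup H₀) = ⊥ := by simpa [hC'] using hC.disjoint
  have := P.not_dvd_index
  rw [h1, index_bot] at this
  exact this hd

theorem le_solvableRadical_of_isSubnormal {H : Subgroup G} (h : H.IsSubnormal)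
    (hs : Group.IsSolvable H) : H ≤ solvableRadical G := by
  have key : ∀ K : Subgroup G, K.IsSubnormal →
      (solvableRadical K).map K.subtype ≤ solvableRadical G := by
    intro K hK
    induction hK with
    | top => exact FGS.map_solvableRadical_le _ fun x => ⟨⟨x, trivial⟩, rfl⟩
    | step H K hle _ hN ih =>
      refine le_trans ?_ ih
      rintro _ ⟨x, hx, rfl⟩
      have e := (subgroupOfEquivOfLe hle).symm
      refine ⟨⟨x, hle x.2⟩, FGS.map_solvableRadical_le_of_normal (H.subgroupOf K)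
        ⟨(subgroupOfEquivOfLe hle).symm x, FGS.map_solvableRadical_le
          (subgroupOfEquivOfLe hle).symm.toMonoidHom (MulEquiv.surjective _) ⟨x, hx, rfl⟩, rfl⟩,
        rfl⟩
  refine le_trans ?_ (key H h)
  rw [FGS.solvableRadical_eq_top_iff.2 hs, ← MonoidHom.range_eq_map, range_subtype]

theorem isCoatom_of_comap {Q : Type*} [Group Q] {f : G →* Q} (hf : Function.Surjective f)
    {M : Subgroup Q} (h : IsCoatom (M.comap f)) : IsCoatom M := by
  refine ⟨fun e => h.1 (by rw [e, comap_top]), fun K hK => ?_⟩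
  have := h.2 (K.comap f) ((comap_lt_comap_of_surjective hf).2 hK)
  rwa [← comap_top f, comap_injective hf |>.eq_iff] at this

theorem normalizer_le_comap {Q : Type*} [Group Q] (f : G →* Q) (H : Subgroup G) :
    𝐍[H] ≤ (𝐍[H.map f]).comap f := fun _ hx => le_normalizer_map f ⟨_, hx, rfl⟩

/-- The hypothesis above the solvable radical. -/
def Hyp0 (G : Type*) [Group G] : Prop :=
  ∀ H : Subgroup G, Bip (Nat.card H) → ¬ H ≤ solvableRadical G → IsCoatom 𝐍[H]

/-- The hypothesis for a group with trivial solvable radical. -/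
def Hyp (G : Type*) [Group G] : Prop :=
  ∀ H : Subgroup G, H ≠ ⊥ → Bip (Nat.card H) → IsCoatom 𝐍[H]

theorem hyp0_of (h : ∀ H : Subgroup G, ¬ H.IsSubnormal → Bip (Nat.card H) → IsCoatom 𝐍[H]) :
    Hyp0 G := fun H hb hH =>
  h H (fun hs => hH (le_solvableRadical_of_isSubnormal hs (isSolvable_of_bip hb))) hb

theorem Hyp0.normalizer_eq (h : Hyp0 G) {Q : Type*} [Group Q] [Finite Q] {f : G →* Q}
    (hf : Function.Surjective f) (hk : f.ker = solvableRadical G) (hQ : solvableRadical Q = ⊥)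
    {H : Subgroup G} (hb : Bip (Nat.card H)) (hH : ¬ H ≤ solvableRadical G) :
    𝐍[H] = (𝐍[H.map f]).comap f := by
  refine ((h H hb hH).le_iff_eq fun e => hH ?_).1 (normalizer_le_comap f H) |>.symm
  rw [← comap_top f, (comap_injective hf).eq_iff, normalizer_eq_top_iff] at e
  have := FGS.le_solvableRadical e (isSolvable_of_bip (hb.of_dvd (card_map_dvd H f)))
  rwa [hQ, le_bot_iff, Subgroup.map_eq_bot_iff, hk] at this

theorem Hyp0.hyp (h : Hyp0 G) : Hyp (G ⧸ solvableRadical G) := by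
  intro H h1 hb
  have hf := QuotientGroup.mk'_surjective (solvableRadical G)
  obtain ⟨H₀, rfl, h₀⟩ := exists_lift (QuotientGroup.mk' (solvableRadical G)) (H := H)
    (by rw [MonoidHom.range_eq_top.2 hf]; exact le_top)
  have hH : ¬ H₀ ≤ solvableRadical G := fun e => h1 (by
    rwa [Subgroup.map_eq_bot_iff, QuotientGroup.ker_mk'])
  refine isCoatom_of_comap hf ?_
  rw [← h.normalizer_eq hf (QuotientGroup.ker_mk' _) (FGS.solvableRadical_quotient G)
    (hb.of_primes h₀) hH]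
  exact h _ (hb.of_primes h₀) hH

/-! ### Normalizers of cyclic subgroups -/

theorem mem_normalizer_zpowers {a g : G} : g ∈ 𝐍[zpowers a] ↔ g * a * g⁻¹ ∈ zpowers a := by
  refine ⟨fun h => (mem_normalizer_iff.1 h a).1 (mem_zpowers a), fun h => ?_⟩
  refine mem_normalizer_fintype ?_
  rintro _ ⟨k, rfl⟩
  rw [← conj_zpow]
  exact zpow_mem h k

theorem normalizer_zpowers_le {u y : G} (hy : y ∈ zpowers u) :
    𝐍[zpowers u] ≤ 𝐍[zpowers y] := by
  obtain ⟨k, rfl⟩ := hy
  intro g hg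
  obtain ⟨m, hm⟩ := mem_normalizer_zpowers.1 hg
  refine mem_normalizer_zpowers.2 ⟨m, ?_⟩
  simp only at hm ⊢
  rw [← conj_zpow, ← hm, ← zpow_mul, ← zpow_mul, mul_comm]

theorem mem_normalizer_of_commute {a g : G} (h : g * a = a * g) : g ∈ 𝐍[zpowers a] :=
  mem_normalizer_zpowers.2 (by rw [h, mul_inv_cancel_right]; exact mem_zpowers a)

theorem eq_or_of_mem_zpowers {t y : G} (ht : t * t = 1) (hy : y ∈ zpowers t) : y = 1 ∨ y = t := by
  obtain ⟨k, rfl⟩ := hy
  have h2 : t ^ (2 : ℤ) = 1 := by rw [zpow_two, ht]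
  obtain ⟨k, rfl | rfl⟩ := Int.even_or_odd' k
  · exact Or.inl (by simp only [zpow_mul, h2, one_zpow])
  · exact Or.inr (by simp only [zpow_add, zpow_mul, h2, one_zpow, one_mul, zpow_one])

theorem commute_of_mem_normalizer {t g : G} (ht : t * t = 1) (hg : g ∈ 𝐍[zpowers t]) :
    g * t = t * g := by
  rcases eq_or_of_mem_zpowers ht (mem_normalizer_zpowers.1 hg) with e | e
  · rw [conj_eq_one_iff.1 e, mul_one, one_mul]
  · rw [mul_inv_eq_iff_eq_mul.1 e]

theorem left_mem_zpowers_mul {m n : ℕ} (hmn : m.Coprime n) {a b : G} (hc : Commute a b)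
    (ha : a ^ m = 1) (hb : b ^ n = 1) : a ∈ zpowers (a * b) := by
  refine FGS.mem_of_pow_mem_of_coprime (m := n)
    (hmn.coprime_dvd_left (orderOf_dvd_of_pow_eq_one ha)) ?_
  have := pow_mem (mem_zpowers (a * b)) n
  rwa [hc.mul_pow, hb, mul_one] at this

theorem exists_mul_pow {x y : G} (hx : x ∈ 𝐍[zpowers y]) (n : ℕ) :
    ∃ k ∈ zpowers y, (x * y) ^ n = x ^ n * k := by
  induction n with
  | zero => exact ⟨1, one_mem _, by simp⟩
  | succ n ih =>
    obtain ⟨k, hk, e⟩ := ih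
    refine ⟨x⁻¹ * k * x⁻¹⁻¹ * y, mul_mem ((mem_normalizer_iff.1 (inv_mem hx) k).1 hk)
      (mem_zpowers y), ?_⟩
    rw [pow_succ, e, pow_succ]
    group

/-- The group generated by `x` and an involution `s` inverting it. -/
def dihSub {x s : G} (hs : s * s = 1) (hx : s * x * s⁻¹ = x⁻¹) : Subgroup G where
  carrier := {y | y ∈ zpowers x ∨ y * s ∈ zpowers x}
  one_mem' := Or.inl (one_mem _)
  inv_mem' := by
    have hn : s ∈ 𝐍[zpowers x] := mem_normalizer_zpowers.2 (hx ▸ inv_mem (mem_zpowers x))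
    have hs' : s⁻¹ = s := inv_eq_of_mul_eq_one_right hs
    rintro y (h | h)
    · exact Or.inl (inv_mem h)
    · refine Or.inr ?_
      have := (mem_normalizer_iff.1 hn _).1 (inv_mem h)
      rwa [mul_inv_rev, hs', ← mul_assoc, hs, one_mul] at this
  mul_mem' := by
    have hn : s ∈ 𝐍[zpowers x] := mem_normalizer_zpowers.2 (hx ▸ inv_mem (mem_zpowers x))
    have hs' : s⁻¹ = s := inv_eq_of_mul_eq_one_right hs
    rintro a b (ha | ha) (hb | hb)
    · exact Or.inl (mul_mem ha hb)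
    · exact Or.inr (by rw [mul_assoc]; exact mul_mem ha hb)
    · refine Or.inr ?_
      have := mul_mem ha ((mem_normalizer_iff.1 hn _).1 hb)
      rwa [hs', show a * s * (s * b * s) = a * (s * s) * b * s by group, hs, mul_one] at this
    · refine Or.inl ?_
      have := mul_mem ha ((mem_normalizer_iff.1 hn _).1 hb)
      rwa [show a * s * (s * (b * s) * s⁻¹) = a * (s * s) * b by group, hs, mul_one] at this

theorem card_dihSub_dvd {x s : G} (hs : s * s = 1) (hx : s * x * s⁻¹ = x⁻¹) :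
    Nat.card (dihSub hs hx) ∣ orderOf x * 2 := by
  have hle : zpowers x ≤ dihSub hs hx := fun _ h => Or.inl h
  rw [← card_mul_index ((zpowers x).subgroupOf (dihSub hs hx)),
    Nat.card_congr (subgroupOfEquivOfLe hle).toEquiv, Nat.card_zpowers]
  refine Nat.mul_dvd_mul_left _ (relIndex_dvd_two_iff.2 ⟨s, Or.inr (hs ▸ one_mem _), ?_⟩)
  exact fun b hb => hb.symm

theorem normalizer_dihSub_le {x s : G} (hs : s * s = 1) (hx : s * x * s⁻¹ = x⁻¹)
    (h2 : x * x ≠ 1) : 𝐍[dihSub hs hx] ≤ 𝐍[zpowers x] := by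
  intro g hg
  refine mem_normalizer_zpowers.2 (((mem_normalizer_iff.1 hg x).1
    (Or.inl (mem_zpowers x))).resolve_right ?_)
  rintro ⟨k, hk⟩
  simp only at hk
  have hs' : s⁻¹ = s := inv_eq_of_mul_eq_one_right hs
  have e : g * x * g⁻¹ = x ^ k * s := by rw [hk, mul_assoc _ s, hs, mul_one]
  have e2 : s * x ^ k * s = (x ^ k)⁻¹ := by
    rw [← inv_zpow, ← hx, conj_zpow, hs']
  refine h2 (conj_eq_one_iff.1 (?_ : g * (x * x) * g⁻¹ = 1))
  rw [show g * (x * x) * g⁻¹ = (g * x * g⁻¹) * (g * x * g⁻¹) by group, e,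
    show x ^ k * s * (x ^ k * s) = x ^ k * (s * x ^ k * s) by group, e2, mul_inv_cancel]

namespace Hyp

variable (h : Hyp G)
include h

theorem norm_eq {H X : Subgroup G} (h1 : H ≠ ⊥) (hb : Bip (Nat.card H)) (hX : 𝐍[X] ≠ ⊤)
    (hle : 𝐍[H] ≤ 𝐍[X]) : 𝐍[X] = 𝐍[H] :=
  ((h H h1 hb).le_iff_eq hX).1 hle

theorem rad : solvableRadical G = ⊥ := by
  by_contra h1
  have := FGS.isSolvable_solvableRadical G
  obtain ⟨p, M, hp, hn, h1, -, -, -, hM, -⟩ :=
    Grp.exists_minNormal_elementaryAbelian_le (solvableRadical G) h1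
  exact (h M h1 (bip_of_isPGroup hp hM)).1 (normalizer_eq_top_iff.2 hn)

theorem eq_bot_of_isSubnormal {H : Subgroup G} (hH : H.IsSubnormal) (hb : Bip (Nat.card H)) :
    H = ⊥ :=
  le_bot_iff.1 (h.rad ▸ le_solvableRadical_of_isSubnormal hH (isSolvable_of_bip hb))

theorem norm_zpowers {u y : G} (hb : Bip (orderOf u)) (hy : y ∈ zpowers u) (h1 : y ≠ 1) :
    𝐍[zpowers y] = 𝐍[zpowers u] := by
  have hb' : Bip (Nat.card (zpowers u)) := by rwa [Nat.card_zpowers]
  refine h.norm_eq (fun e => h1 (by simpa [e] using hy)) hb' (h _ (by simpa using h1)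
    (hb'.of_dvd (card_dvd_of_le (zpowers_le.2 hy)))).1 (normalizer_zpowers_le hy)

theorem norm_comm {p q k l : ℕ} (hp : p.Prime) (hq : q.Prime) (hpq : p ≠ q) {a b : G}
    (hc : Commute a b) (ha : a ^ p ^ k = 1) (hb : b ^ q ^ l = 1) (ha1 : a ≠ 1) (hb1 : b ≠ 1) :
    𝐍[zpowers a] = 𝐍[zpowers b] := by
  have hco : (p ^ k).Coprime (q ^ l) := Nat.coprime_pow_primes k l hp hq hpq
  have hb' := bip_zpowers_mul hp hq hc ha hb
  rw [Nat.card_zpowers] at hb'
  rw [h.norm_zpowers hb' (left_mem_zpowers_mul hco hc ha hb) ha1,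
    h.norm_zpowers hb' (hc.eq ▸ left_mem_zpowers_mul hco.symm hc.symm hb ha) hb1]

theorem dih {p k : ℕ} (hp : p.Prime) {x s g : G} (hk : x ^ p ^ k = 1) (h2 : x * x ≠ 1)
    (hs : s * s = 1) (hx : s * x * s⁻¹ = x⁻¹) (hg : g ∈ 𝐍[zpowers x]) :
    g * s * g⁻¹ ∈ zpowers x ∨ g * s * g⁻¹ * s ∈ zpowers x := by
  have h1 : x ≠ 1 := fun e => h2 (by simp [e])
  have hb : Bip (Nat.card (dihSub hs hx)) := (bip_mul hp Nat.prime_two k 1).of_dvd
    ((card_dihSub_dvd hs hx).trans (Nat.mul_dvd_mul (orderOf_dvd_of_pow_eq_one hk) (by simp)))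
  have hx' : x ∈ dihSub hs hx := Or.inl (mem_zpowers x)
  rw [h.norm_eq (fun e => h1 (by simpa [e] using hx')) hb
    (h _ (by simpa using h1) (bip_zpowers hp hk)).1 (normalizer_dihSub_le hs hx h2)] at hg
  exact (mem_normalizer_iff.1 hg s).1 (Or.inr (hs ▸ one_mem _))

/-- In the centralizer of an involution elements of odd order generate normal subgroups. -/
theorem mem_norm_of_odd {t y g : G} (ht : orderOf t = 2) (hy : Commute t y)
    (ho : (orderOf y).Coprime 2) (hg : g * t = t * g) : g ∈ 𝐍[zpowers y] := by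
  refine mem_normalizer_zpowers.2 ?_
  refine FGS.mem_of_forall_primePow_part (H := (zpowers y).comap (MulAut.conj g).toMonoidHom)
    fun p hp z hz ⟨k, hk⟩ => ?_
  by_cases h1 : z = 1
  · rw [h1]; exact one_mem _
  have hp2 : 2 ≠ p := by
    rintro rfl
    exact h1 (orderOf_eq_one_iff.1 (Nat.eq_one_of_dvd_coprimes (ho.pow_right k)
      (orderOf_dvd_of_mem_zpowers hz) (orderOf_dvd_of_pow_eq_one hk)))
  have hc : Commute t z := by
    obtain ⟨m, rfl⟩ := hz
    exact hy.zpow_right m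
  have := mem_normalizer_of_commute hg
  rw [h.norm_comm Nat.prime_two hp hp2 hc (k := 1) (by rw [pow_one, ← ht, pow_orderOf_eq_one]) hk
    (fun e => by simp [e] at ht) h1] at this
  exact zpowers_le.2 hz (mem_normalizer_zpowers.1 this)

theorem coprime_mul {t x y : G} (ht : orderOf t = 2) (hx : x * t = t * x) (hy : y * t = t * y)
    (ox : (orderOf x).Coprime 2) (oy : (orderOf y).Coprime 2) : (orderOf (x * y)).Coprime 2 := by
  obtain ⟨k, hk, e⟩ := exists_mul_pow (h.mem_norm_of_odd ht hy.symm oy hx) (orderOf x)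
  rw [pow_orderOf_eq_one, one_mul] at e
  refine (Nat.Coprime.mul_left ox oy).coprime_dvd_left (orderOf_dvd_of_pow_eq_one ?_)
  rw [pow_mul, e]
  exact orderOf_dvd_iff_pow_eq_one.1 (orderOf_dvd_of_mem_zpowers hk)

/-- There is a normal simple subgroup. -/
theorem exists_simple [Nontrivial G] : ∃ S : Subgroup G, S.Normal ∧ IsSimpleGroup S := by
  obtain ⟨N, hN, hN1, hmin⟩ := Grp.exists_minNormal G
  obtain ⟨S, ⟨hS1, hSN, hNS⟩, hS⟩ := WellFounded.has_min (wellFounded_lt (α := Subgroup G))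
    {S | S ≠ ⊥ ∧ S ≤ N ∧ N ≤ 𝐍[S]} ⟨N, hN1, le_rfl, le_normalizer⟩
  have sub : S.IsSubnormal := .step S N hSN hN.isSubnormal
    ((normal_subgroupOf_iff_le_normalizer hSN).2 hNS)
  have cent : ∀ b : G, (∀ s ∈ S, s * b = b * s) → b = 1 := by
    intro b hb
    by_contra hb1
    obtain ⟨q, hq, hd⟩ := Nat.exists_prime_and_dvd (mt orderOf_eq_one_iff.1 hb1)
    have := Fact.mk hq
    obtain ⟨⟨c, hc⟩, hc'⟩ := exists_prime_orderOf_dvd_card' (G := zpowers b) q
      (by rwa [Nat.card_zpowers])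
    rw [← orderOf_coe] at hc'
    obtain ⟨p, hp, hd', hpq⟩ : ∃ p : ℕ, p.Prime ∧ p ∣ Nat.card S ∧ p ≠ q := by
      by_contra! hcon
      exact hS1 (h.eq_bot_of_isSubnormal sub ⟨q, q, hq, hq, fun r hr hr' => Or.inl (hcon r hr hr')⟩)
    have := Fact.mk hp
    obtain ⟨⟨a, ha⟩, ha'⟩ := exists_prime_orderOf_dvd_card' (G := S) p hd'
    rw [← orderOf_coe] at ha'
    simp only at ha' hc'
    have hcs : ∀ s ∈ S, Commute s c := fun s hs => by
      obtain ⟨m, rfl⟩ := hc
      exact Commute.zpow_right (hb s hs) m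
    have ha1 : a ≠ 1 := fun e => hp.ne_one (by rw [← ha', e, orderOf_one])
    have hak : a ^ p ^ 1 = 1 := by rw [pow_one, ← ha', pow_orderOf_eq_one]
    have e := h.norm_comm hp hq hpq (hcs a ha) hak (l := 1)
      (by rw [pow_one, ← hc', pow_orderOf_eq_one]) ha1
      (fun e => hq.ne_one (by rw [← hc', e, orderOf_one]))
    have hle : zpowers a ≤ S := zpowers_le.2 ha
    refine ha1 (zpowers_eq_bot.1 (h.eq_bot_of_isSubnormal (.step _ S hle sub
      ((normal_subgroupOf_iff_le_normalizer hle).2 fun s hs => ?_)) (bip_zpowers hp hak)))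
    rw [e]
    exact mem_normalizer_of_commute (hcs s hs)
  have hn : S.Normal := by
    refine ⟨fun x hx g => ?_⟩
    set T := S.comap (MulAut.conj g).toMonoidHom
    have hT : ∀ n ∈ N, ∀ y ∈ T, n * y * n⁻¹ ∈ T := fun n hn y hy => by
      have := (mem_normalizer_iff.1 (hNS (hN.conj_mem n hn g)) _).1 hy
      change g * (n * y * n⁻¹) * g⁻¹ ∈ S
      convert this using 1
      simp only [MulEquiv.toMonoidHom_eq_coe, MonoidHom.coe_coe, MulAut.conj_apply]
      group
    by_cases h1 : S ⊓ T = ⊥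
    · refine absurd (eq_bot_iff.2 fun y hy => ?_) hS1
      have hy' : g⁻¹ * y * g ∈ T := by
        change g * (g⁻¹ * y * g) * g⁻¹ ∈ S
        rwa [show g * (g⁻¹ * y * g) * g⁻¹ = y by group]
      have hyN : g⁻¹ * y * g ∈ N := by simpa using hN.conj_mem y (hSN hy) g⁻¹
      have := cent (g⁻¹ * y * g) fun s hs => by
        generalize g⁻¹ * y * g = b at hy' hyN
        have : s * b * s⁻¹ * b⁻¹ ∈ S ⊓ T :=
          ⟨by
            have := (mem_normalizer_iff.1 (hNS hyN) _).1 (inv_mem hs)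
            rw [show s * b * s⁻¹ * b⁻¹ = s * (b * s⁻¹ * b⁻¹) by group]
            exact mul_mem hs this,
            T.mul_mem (hT s (hSN hs) b hy') (T.inv_mem hy')⟩
        rw [h1, mem_bot, mul_inv_eq_one, mul_inv_eq_iff_eq_mul] at this
        exact this
      rw [mem_bot, show y = g * (g⁻¹ * y * g) * g⁻¹ by group, this]
      simp
    · have : S ⊓ T = S := inf_le_left.eq_of_not_lt (hS _ ⟨h1, inf_le_left.trans hSN,
        fun n hn => mem_normalizer_fintype fun y hy =>
          ⟨(mem_normalizer_iff.1 (hNS hn) y).1 hy.1, hT n hn y hy.2⟩⟩)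
      exact (this.ge hx).2
  obtain rfl : S = N := (hmin S hn hSN).resolve_left hS1
  have := (nontrivial_iff_ne_bot S).2 hS1
  refine ⟨S, hn, ⟨fun K hK => or_iff_not_imp_left.2 fun h1 => ?_⟩⟩
  have : K.map S.subtype = S := (map_subtype_le K).eq_of_not_lt (hS _ ⟨fun e => h1
    ((map_eq_bot_iff_of_injective _ S.subtype_injective).1 e), map_subtype_le K, fun n hn =>
      mem_normalizer_fintype (by
        rintro _ ⟨y, hy, rfl⟩
        exact ⟨_, hK.conj_mem y hy ⟨n, hn⟩, rfl⟩)⟩)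
  exact map_injective S.subtype_injective (by rw [this, ← MonoidHom.range_eq_map, range_subtype])

theorem of_equiv {G' : Type*} [Group G'] (e : G ≃* G') : Hyp G' := by
  intro H h1 hb
  have hs : Function.Surjective e.toMonoidHom := e.surjective
  refine isCoatom_of_comap hs ?_
  rw [comap_normalizer_eq_of_surjective _ hs]
  refine h _ (fun e' => h1 ?_) (hb.of_dvd (card_comap_dvd_of_injective _ _ e.injective))
  rw [← map_comap_eq_self_of_surjective hs H, e', Subgroup.map_bot]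

end Hyp

end Cfsg.Agent.MaxN
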