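import Mathlib
import Cfsg.Agent.MaxN.Base
import Cfsg.Agent.JTW.PSLFactsAux

/-! Consequences for a normal simple subgroup. -/

set_option autoImplicit false
set_option linter.unusedSectionVars false

namespace Cfsg.Agent.MaxN

open Subgroup Cfsg.Agent.Class.Dickson Cfsg.Agent.JTW.PA

local notation "𝐍[" H "]" => Subgroup.normalizer (SetLike.coe H)

/-- `f` embeds the simple group `S` as a normal subgroup of a group satisfying `Hyp`. -/
structure Setup {G S : Type*} [Group G] [Group S] (f : S →* G) : Prop where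
  hyp : Hyp G
  inj : Function.Injective f
  normal : f.range.Normal
  simple : IsSimpleGroup S

variable {G S : Type*} [Group G] [Finite G] [Group S] {f : S →* G}

theorem Setup.comp (h : Setup f) {S' : Type*} [Group S'] (e : S' ≃* S) :
    Setup (f.comp e.toMonoidHom) := by
  have := h.simple
  refine ⟨h.hyp, h.inj.comp e.injective, ?_, e.isSimpleGroup⟩
  have hs : Function.Surjective e.toMonoidHom := e.surjective
  rw [MonoidHom.range_comp, MonoidHom.range_eq_top.2 hs, ← MonoidHom.range_eq_map]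
  exact h.normal

namespace Setup

variable (h : Setup f)
include h

theorem finite : Finite S := Finite.of_injective f h.inj

theorem mem_zpowers_iff {a b : S} : f a ∈ zpowers (f b) ↔ a ∈ zpowers b := by
  rw [← MonoidHom.map_zpowers, mem_map_iff_mem h.inj]

theorem mem_norm_iff {g a : S} : f g ∈ 𝐍[zpowers (f a)] ↔ g * a * g⁻¹ ∈ zpowers a := by
  rw [mem_normalizer_zpowers, ← map_inv, ← map_mul, ← map_mul, h.mem_zpowers_iff]

theorem ne_one {a : S} (ha : a ≠ 1) : f a ≠ 1 := (map_ne_one_iff f h.inj).2 ha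

theorem not_le_norm {H : Subgroup G} (hH : H ≤ f.range) (h1 : H ≠ ⊥) (hb : Bip (Nat.card H)) :
    ¬ f.range ≤ 𝐍[H] := by
  intro hle
  have := h.simple
  have hn : (H.comap f).Normal := ⟨fun x hx g => by
    have := (mem_normalizer_iff.1 (hle ⟨g, rfl⟩) _).1 hx
    rwa [← map_inv, ← map_mul, ← map_mul] at this⟩
  have e := map_comap_eq_self hH
  rcases hn.eq_bot_or_eq_top with e' | e'
  · rw [e', Subgroup.map_bot] at e
    exact h1 e.symm
  · rw [e', ← MonoidHom.range_eq_map] at e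
    exact (h.hyp H h1 hb).1 (normalizer_eq_top_iff.2 (e ▸ h.normal))

theorem not_central {u : S} (h1 : u ≠ 1) (hb : Bip (orderOf u)) : ¬ ∀ s, s * u = u * s := by
  intro hc
  refine h.not_le_norm (H := zpowers (f u)) (zpowers_le.2 ⟨u, rfl⟩) (by simpa using h.ne_one h1)
    (by rwa [Nat.card_zpowers, orderOf_injective f h.inj]) ?_
  rintro _ ⟨s, rfl⟩
  exact mem_normalizer_of_commute (by rw [← map_mul, hc, map_mul])

theorem exists_mul {H : Subgroup G} (hH : H ≤ f.range) (h1 : H ≠ ⊥) (hb : Bip (Nat.card H))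
    (g : G) : ∃ σ : S, ∃ n ∈ 𝐍[H], g = f σ * n := by
  have := h.normal
  have e : f.range ⊔ 𝐍[H] = ⊤ := (h.hyp H h1 hb).2 _ (lt_of_le_of_ne le_sup_right fun e =>
    h.not_le_norm hH h1 hb (e ▸ le_sup_left))
  have : g ∈ f.range ⊔ 𝐍[H] := e ▸ mem_top g
  rw [← SetLike.mem_coe, normal_mul] at this
  obtain ⟨_, ⟨σ, rfl⟩, n, hn, rfl⟩ := this
  exact ⟨σ, n, hn, rfl⟩

theorem not_comm : ¬ IsMulCommutative S := by
  intro hc
  have := h.simple
  have := h.finite
  obtain ⟨p, hp, hd⟩ := Nat.exists_prime_and_dvd (Finite.one_lt_card (α := S)).ne'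
  have := Fact.mk hp
  obtain ⟨u, hu⟩ := exists_prime_orderOf_dvd_card' p hd
  refine h.not_central (u := u) (fun e => hp.ne_one (by rw [← hu, e, orderOf_one]))
    (hu ▸ (bip_pow hp 1).of_dvd (by simp)) fun s => hc.is_comm.comm s u

theorem two_nilpotent (t : S) (ht : orderOf t = 2) :
    HasNormalPComplement 2 (centralizer ({t} : Set S)) := by
  have := h.finite
  refine (Transfer.hasNormalPComplement_subgroup_iff_mul _).2 fun x hx y hy ox oy => ?_
  rw [mem_centralizer_singleton_iff] at hx hy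
  rw [← orderOf_injective f h.inj] at ht ox oy ⊢
  rw [map_mul]
  exact h.hyp.coprime_mul ht (by rw [← map_mul, hx, map_mul]) (by rw [← map_mul, hy, map_mul])
    ox oy

theorem pow {u y g : S} (hb : Bip (orderOf u)) (hy : y ∈ zpowers u) (h1 : y ≠ 1)
    (hg : g * y = y * g) : g * u * g⁻¹ ∈ zpowers u := by
  rw [← h.mem_norm_iff, ← h.hyp.norm_zpowers (by rwa [orderOf_injective f h.inj])
    (h.mem_zpowers_iff.2 hy) (h.ne_one h1)]
  exact mem_normalizer_of_commute (by rw [← map_mul, hg, map_mul])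

theorem comm {p q k l : ℕ} (hp : p.Prime) (hq : q.Prime) (hpq : p ≠ q) {a b g : S}
    (hc : Commute a b) (ha : a ^ p ^ k = 1) (hb : b ^ q ^ l = 1) (ha1 : a ≠ 1) (hb1 : b ≠ 1)
    (hg : g * b = b * g) : g * a * g⁻¹ ∈ zpowers a := by
  rw [← h.mem_norm_iff, h.hyp.norm_comm hp hq hpq (hc.map f) (by rw [← map_pow, ha, map_one])
    (by rw [← map_pow, hb, map_one]) (h.ne_one ha1) (h.ne_one hb1)]
  exact mem_normalizer_of_commute (by rw [← map_mul, hg, map_mul])

theorem dih {p k : ℕ} (hp : p.Prime) {x s g : S} (hk : x ^ p ^ k = 1) (h2 : x * x ≠ 1)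
    (hs : s * s = 1) (hx : s * x * s⁻¹ = x⁻¹) (hg : g * x = x * g) :
    g * s * g⁻¹ ∈ zpowers x ∨ g * s * g⁻¹ * s ∈ zpowers x := by
  have := h.hyp.dih hp (x := f x) (s := f s) (g := f g) (by rw [← map_pow, hk, map_one])
    (by rw [← map_mul]; exact h.ne_one h2) (by rw [← map_mul, hs, map_one])
    (by simp only [← map_inv, ← map_mul, hx])
    (mem_normalizer_of_commute (by rw [← map_mul, hg, map_mul]))
  simpa only [← map_inv, ← map_mul, h.mem_zpowers_iff] using this

theorem cent {u d : S} (h1 : u ≠ 1) (hb : Bip (orderOf u))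
    (hd : ∀ s, s * u = u * s → d * s * d⁻¹ * u = u * (d * s * d⁻¹)) :
    d * u * d⁻¹ ∈ zpowers u := by
  set X := f.range ⊓ centralizer {f u}
  have hX : ∀ y, y ∈ X ↔ y ∈ f.range ∧ y * f u = f u * y := fun y => by
    rw [mem_inf, mem_centralizer_singleton_iff]
  rw [← h.mem_norm_iff, ← h.hyp.norm_eq (X := X) (by simpa using h.ne_one h1)
    (by rwa [Nat.card_zpowers, orderOf_injective f h.inj]) ?_ ?_]
  · refine mem_normalizer_fintype fun y hy => ?_
    obtain ⟨⟨s, rfl⟩, e⟩ := (hX y).1 hy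
    refine (hX _).2 ⟨h.normal.conj_mem _ ⟨s, rfl⟩ _, ?_⟩
    simp only [← map_inv, ← map_mul, h.inj.eq_iff] at e ⊢
    exact hd s e
  · intro e
    have := h.simple
    have hn : (X.comap f).Normal := (normalizer_eq_top_iff.1 e).comap f
    have hu : u ∈ X.comap f := (hX _).2 ⟨⟨u, rfl⟩, rfl⟩
    refine h.not_central h1 hb fun s => h.inj ?_
    have : s ∈ X.comap f := by
      rw [hn.eq_bot_or_eq_top.resolve_left fun e => h1 (by simpa [e] using hu)]
      trivial
    simpa only [map_mul] using ((hX _).1 this).2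
  · intro g hg
    refine mem_normalizer_fintype fun y hy => ?_
    obtain ⟨hy, e⟩ := (hX y).1 hy
    refine (hX _).2 ⟨h.normal.conj_mem _ hy _, ?_⟩
    obtain ⟨m, hm⟩ := mem_normalizer_zpowers.1 (inv_mem hg)
    have e' : Commute y (g⁻¹ * f u * g⁻¹⁻¹) := hm ▸ Commute.zpow_right e m
    calc g * y * g⁻¹ * f u = g * (y * (g⁻¹ * f u * g⁻¹⁻¹)) * g⁻¹ := by group
      _ = f u * (g * y * g⁻¹) := by rw [e'.eq]; group

theorem klein {a b w : S} (K : KleinPair a b) (e1 : w * a * w⁻¹ = b) (e2 : w * b * w⁻¹ = a * b)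
    (hC : ∀ g, g * a = a * g → g * b * g⁻¹ ∈ K.sub) : False := by
  have := h.finite
  set V := K.sub.map f
  have hV : V ≤ f.range := map_le_range _ _
  have h1 : V ≠ ⊥ := fun e => K.ne_one_left (by
    have : a ∈ K.sub := K.mem_sub.2 (by simp)
    rwa [(map_eq_bot_iff_of_injective _ h.inj).1 e, mem_bot] at this)
  have hb : Bip (Nat.card V) := by
    rw [card_map_of_injective h.inj, K.isKleinFour.card_four]
    exact bip_pow Nat.prime_two 2
  have nV : ∀ g : S, g * a * g⁻¹ ∈ K.sub → g * b * g⁻¹ ∈ K.sub → f g ∈ 𝐍[V] := by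
    intro g ha hb
    refine le_normalizer_map f ⟨g, mem_normalizer_fintype fun y hy => ?_, rfl⟩
    rcases K.mem_sub.1 hy with rfl | rfl | rfl | rfl
    · simp
    · exact ha
    · exact hb
    · have := mul_mem ha hb
      rwa [show g * a * g⁻¹ * (g * b * g⁻¹) = g * (a * b) * g⁻¹ by group] at this
  have hw : f w ∈ 𝐍[V] := nV w (K.mem_sub.2 (by simp [e1])) (K.mem_sub.2 (by simp [e2]))
  have hCV : ∀ g, g * a = a * g → f g ∈ 𝐍[V] := fun g hg =>
    nV g (K.mem_sub.2 (by simp [hg])) (hC g hg)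
  have ha2 : f a * f a = 1 := by rw [← map_mul, K.sq_left, map_one]
  have hle : 𝐍[zpowers (f a)] ≤ 𝐍[V] := by
    intro g hg
    have hg' := commute_of_mem_normalizer ha2 hg
    obtain ⟨σ, n, hn, rfl⟩ := h.exists_mul hV h1 hb g
    obtain ⟨y, hy, e⟩ := (mem_normalizer_iff.1 hn (f a)).1 ⟨a, K.mem_sub.2 (by simp), rfl⟩
    obtain ⟨d, hd, e'⟩ : ∃ d : S, f d ∈ 𝐍[V] ∧ d * a * d⁻¹ = y := by
      rcases K.mem_sub.1 hy with rfl | rfl | rfl | rfl
      · exact absurd (conj_eq_one_iff.1 (e.symm.trans (map_one f))) (h.ne_one K.ne_one_left)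
      · exact ⟨1, by simp, by simp⟩
      · exact ⟨w, hw, e1⟩
      · exact ⟨w * w, by simpa using mul_mem hw hw, by rw [← e2, ← e1]; group⟩
    have : σ * d * a = a * (σ * d) := by
      refine h.inj ?_
      have e3 : f d * f a * (f d)⁻¹ = n * f a * n⁻¹ := by rw [← e, ← e']; simp
      simp only [map_mul]
      calc f σ * f d * f a = f σ * (f d * f a * (f d)⁻¹) * f d := by group
        _ = (f σ * n * f a) * n⁻¹ * f d := by rw [e3]; group
        _ = _ := by rw [hg']; group
    have h3 := mul_mem (hCV _ this) (inv_mem hd)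
    rw [map_mul, mul_inv_cancel_right] at h3
    exact mul_mem h3 hn
  rw [h.hyp.norm_eq (by simpa using h.ne_one K.ne_one_left)
    (bip_zpowers Nat.prime_two (k := 1) (by rw [pow_one, pow_two, ha2])) (h.hyp V h1 hb).1 hle,
    h.mem_norm_iff, e1] at hw
  rcases eq_or_of_mem_zpowers K.sq_left hw with e | e
  · exact K.ne_one_right e
  · exact K.ne e.symm

theorem surj (hD : ∀ s : S, s ≠ 1 → s * s = 1 → ∃ c, Dih ⊤ 3 s c) {t : S} (h1 : t ≠ 1)
    (ht : t * t = 1) : Function.Surjective f := by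
  have := h.finite
  have hyp := h.hyp
  -- data attached to an involution
  have data : ∀ t : S, t ≠ 1 → t * t = 1 → ∃ x : S, x ^ 3 ^ 1 = 1 ∧ x * x ≠ 1 ∧ x * t = t * x ∧
      𝐍[zpowers (f x)] = 𝐍[zpowers (f t)] ∧
      (∃ s, s * s = 1 ∧ s ≠ 1 ∧ s ≠ t ∧ s * t = t * s) ∧
      ∀ s, s * s = 1 → s ≠ 1 → s ≠ t → s * t = t * s → s * x * s⁻¹ = x⁻¹ := by
    intro t h1 ht
    obtain ⟨c, D⟩ := hD t h1 ht
    have h3 : orderOf (c ^ 2) = 3 := by rw [← Nat.card_zpowers, D.card_sq]
    have hx : (c ^ 2) ^ 3 ^ 1 = 1 := by rw [pow_one, ← h3, pow_orderOf_eq_one]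
    have hx2 : c ^ 2 * c ^ 2 ≠ 1 := fun e => by
      have := orderOf_dvd_of_pow_eq_one (x := c ^ 2) (n := 2) (by rw [pow_two, e])
      rw [h3] at this
      omega
    have hc : c ^ 2 * t = t * c ^ 2 := D.comm (pow_mem (mem_zpowers c) 2)
    refine ⟨c ^ 2, hx, hx2, hc, hyp.norm_comm Nat.prime_three Nat.prime_two (by decide)
      (Commute.map hc f) (by rw [← map_pow, hx, map_one]) (l := 1)
      (by rw [pow_one, pow_two, ← map_mul, ht, map_one]) (h.ne_one fun e => hx2 (by simp [e]))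
      (h.ne_one h1), ?_, fun s s1 s2 s3 s4 => D.inv s trivial s4
        (fun e => s3 (D.uniq s e s2 s1)) _ (pow_mem (mem_zpowers c) 2)⟩
    obtain ⟨s, hs, hs'⟩ : ∃ s, s * t = t * s ∧ s ∉ zpowers c := by
      by_contra! hcon
      have := card_le_of_le (show (⊤ ⊓ centralizer {t} : Subgroup S) ≤ zpowers c from
        fun s hs => hcon s (mem_centralizer_singleton_iff.1 hs.2))
      rw [D.card, Nat.card_zpowers, D.ord] at this
      omega
    exact ⟨s, D.sq s trivial hs hs', fun e => hs' (e ▸ one_mem _), fun e => hs' (e ▸ D.mem), hs⟩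
  have inv3 : ∀ x y : G, x ^ 3 ^ 1 = 1 → x ≠ 1 → y ∈ 𝐍[zpowers x] →
      y * x * y⁻¹ = x ∨ y * x * y⁻¹ = x⁻¹ := by
    intro x y hx hx1 hy
    obtain ⟨k, hk⟩ := mem_normalizer_zpowers.1 hy
    have h3 : x ^ (3 : ℤ) = 1 := by exact_mod_cast hx
    simp only at hk
    rw [← Int.mul_ediv_add_emod k 3, zpow_add, zpow_mul, h3, one_zpow, one_mul] at hk
    obtain e | e | e : k % 3 = 0 ∨ k % 3 = 1 ∨ k % 3 = 2 := by omega
    · rw [e, zpow_zero] at hk
      exact absurd (conj_eq_one_iff.1 hk.symm) hx1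
    · exact Or.inl (by rw [← hk, e, zpow_one])
    · refine Or.inr ?_
      rw [← hk, e, eq_inv_iff_mul_eq_one, ← zpow_add_one, ← h3]
      rfl
  obtain ⟨x, x3, x2, xt, xN, ⟨s, s2, s1, st, sc⟩, hinv⟩ := data t h1 ht
  obtain ⟨x', x3', x2', xt', xN', -, hinv'⟩ := data s s1 s2
  have sx := hinv s s2 s1 st sc
  have tx' := hinv' t ht h1 st.symm sc.symm
  have fx3 : f x ^ 3 ^ 1 = 1 := by rw [← map_pow, x3, map_one]
  have fx3' : f x' ^ 3 ^ 1 = 1 := by rw [← map_pow, x3', map_one]
  have fx1 : f x ≠ 1 := h.ne_one fun e => x2 (by simp [e])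
  have fx1' : f x' ≠ 1 := h.ne_one fun e => x2' (by simp [e])
  have ft2 : f t * f t = 1 := by rw [← map_mul, ht, map_one]
  have fs2 : f s * f s = 1 := by rw [← map_mul, s2, map_one]
  have ft2' : f t ^ 2 ^ 1 = 1 := by rw [pow_one, pow_two, ft2]
  have fs2' : f s ^ 2 ^ 1 = 1 := by rw [pow_one, pow_two, fs2]
  have ne : 𝐍[zpowers (f t)] ≠ 𝐍[zpowers (f s)] := fun e => by
    have : f x ∈ 𝐍[zpowers (f t)] := mem_normalizer_of_commute (by rw [← map_mul, xt, map_mul])
    have := commute_of_mem_normalizer fs2 (e ▸ this)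
    rw [← map_mul, ← map_mul, h.inj.eq_iff] at this
    rw [← this, mul_inv_cancel_right, eq_inv_iff_mul_eq_one] at sx
    exact x2 sx
  -- the centralizer of the dihedral group lies in the image
  have key : ∀ y : G, y * f t = f t * y → y * f s = f s * y → y * f x = f x * y →
      y ∈ f.range := by
    intro y yt ys yx
    refine FGS.mem_of_forall_primePow_part fun p hp z hz ⟨k, hk⟩ => ?_
    have zt : Commute z (f t) := by obtain ⟨m, rfl⟩ := hz; exact Commute.zpow_left yt m
    have zs : Commute z (f s) := by obtain ⟨m, rfl⟩ := hz; exact Commute.zpow_left ys m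
    have zx : Commute z (f x) := by obtain ⟨m, rfl⟩ := hz; exact Commute.zpow_left yx m
    by_cases hp2 : p = 2
    · subst hp2
      have fin : ∀ z : G, ∀ k : ℕ, z ^ 2 ^ k = 1 → Commute z (f x) → Commute z (f x') → z = 1 := by
        intro z k hk zx zx'
        by_contra z1
        exact ne (by
          rw [← xN, ← xN', ← hyp.norm_comm Nat.prime_two Nat.prime_three (by decide) zx hk fx3
            z1 fx1, hyp.norm_comm Nat.prime_two Nat.prime_three (by decide) zx' hk fx3' z1 fx1'])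
      rcases inv3 _ z fx3' fx1' (xN' ▸ mem_normalizer_of_commute zs) with e | e
      · rw [fin z k hk zx (mul_inv_eq_iff_eq_mul.1 e)]
        exact one_mem _
      · have ft : f t * f x' * (f t)⁻¹ = (f x')⁻¹ := by simp only [← map_inv, ← map_mul, tx']
        have := fin (z * f t) (k + 1) (by
          rw [zt.mul_pow, pow_succ, pow_mul, hk, one_pow, one_mul, mul_comm, pow_mul, pow_two, ft2,
            one_pow])
          (zx.mul_left (Commute.map xt f).symm) (by
            refine mul_inv_eq_iff_eq_mul.1 ?_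
            calc z * f t * f x' * (z * f t)⁻¹ = z * (f t * f x' * (f t)⁻¹) * z⁻¹ := by group
              _ = (z * f x' * z⁻¹)⁻¹ := by rw [ft]; group
              _ = _ := by rw [e, inv_inv])
        rw [eq_inv_of_mul_eq_one_left this]
        exact inv_mem ⟨t, rfl⟩
    · by_contra hz'
      have z1 : z ≠ 1 := fun e => hz' (e ▸ one_mem _)
      exact ne (by
        rw [← hyp.norm_comm hp Nat.prime_two hp2 zt hk ft2' z1 (h.ne_one h1),
          hyp.norm_comm hp Nat.prime_two hp2 zs hk fs2' z1 (h.ne_one s1)])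
  have fsx : f s * f x * (f s)⁻¹ = (f x)⁻¹ := by simp only [← map_inv, ← map_mul, sx]
  have fx2 : f x * f x ≠ 1 := by rw [← map_mul]; exact h.ne_one x2
  have key2 : ∀ y ∈ 𝐍[zpowers (f x)], y * f s = f s * y → y ∈ f.range := by
    intro y hy ys
    have yt := commute_of_mem_normalizer ft2 (xN ▸ hy)
    rcases inv3 _ y fx3 fx1 hy with e | e
    · exact key y yt ys (mul_inv_eq_iff_eq_mul.1 e)
    · have := key (f s * y) ((Commute.map sc f).mul_left yt) ((Commute.refl _).mul_left ys) (by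
        refine mul_inv_eq_iff_eq_mul.1 ?_
        calc f s * y * f x * (f s * y)⁻¹ = f s * (y * f x * y⁻¹) * (f s)⁻¹ := by group
          _ = (f s * f x * (f s)⁻¹)⁻¹ := by rw [e]; group
          _ = _ := by rw [fsx, inv_inv])
      exact (mul_mem_cancel_left (f.mem_range.2 ⟨s, rfl⟩)).1 this
  have key3 : ∀ y ∈ 𝐍[zpowers (f x)], y ∈ f.range := by
    intro y hy
    rcases hyp.dih Nat.prime_three fx3 fx2 fs2 fsx hy with ⟨k, hk⟩ | ⟨k, hk⟩
    · simp only at hk
      have e1 : (y * f s * y⁻¹) ^ 3 = 1 := by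
        rw [← hk, ← zpow_natCast, ← zpow_mul, mul_comm, zpow_mul, zpow_natCast,
          show f x ^ 3 = 1 from fx3, one_zpow]
      rw [conj_pow, conj_eq_one_iff, pow_succ, pow_two, fs2, one_mul] at e1
      exact absurd e1 (h.ne_one s1)
    · simp only at hk
      have hs' : (f s)⁻¹ = f s := inv_eq_of_mul_eq_one_right fs2
      have e1 : y * f s * y⁻¹ = f x ^ k * f s := by rw [hk, mul_assoc _ (f s) (f s), fs2, mul_one]
      have e2 : f s * f x ^ k = (f x ^ k)⁻¹ * f s := by
        rw [← inv_zpow, ← fsx, conj_zpow, inv_mul_cancel_right]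
      have e3 : f x ^ k * f x ^ k * f x ^ k = 1 := by
        rw [← zpow_add, ← zpow_add, show k + k + k = (3 : ℕ) * k by push_cast; ring, zpow_mul,
          zpow_natCast, show f x ^ 3 = 1 from fx3, one_zpow]
      have hm : f x ^ k ∈ f.range := zpow_mem (f.mem_range.2 ⟨x, rfl⟩) k
      have := key2 (f x ^ k * y) (mul_mem (le_normalizer (zpow_mem (mem_zpowers _) k)) hy) (by
        refine mul_inv_eq_iff_eq_mul.1 ?_
        generalize f x ^ k = u at e1 e2 e3
        have e4 : f s * u⁻¹ = u * f s := by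
          calc f s * u⁻¹ = u * (u⁻¹ * f s) * u⁻¹ := by group
            _ = _ := by rw [← e2]; group
        calc u * y * f s * (u * y)⁻¹ = u * (y * f s * y⁻¹) * u⁻¹ := by group
          _ = u * u * (f s * u⁻¹) := by rw [e1]; group
          _ = (u * u * u) * f s := by rw [e4]; group
          _ = _ := by rw [e3, one_mul])
      exact (mul_mem_cancel_left hm).1 this
  intro g
  obtain ⟨σ, n, hn, rfl⟩ := h.exists_mul (H := zpowers (f x)) (zpowers_le.2 ⟨x, rfl⟩)
    (by simpa using fx1) (bip_zpowers Nat.prime_three fx3) g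
  exact f.range.mul_mem ⟨σ, rfl⟩ (key3 n hn)

end Setup

end Cfsg.Agent.MaxN
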