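import Mathlib
import Cfsg.Agent.MaxN.Setup
import Cfsg.Agent.Chev.SzStruct
import Cfsg.Agent.Chev.SzLie
import Cfsg.Agent.KSG.SL2Unip
import Cfsg.Agent.Class.PSL2MaxList
import Cfsg.Agent.CIT.L2Conj

/-! The candidates for the simple normal subgroup. -/

set_option autoImplicit false
set_option linter.unusedSectionVars false

namespace Cfsg.Agent.MaxN

open Subgroup Matrix MatrixGroups Cfsg.Agent.Class.Dickson Cfsg.Agent.JTW.PA Cfsg.Agent.KSG.M2

local notation "𝐍[" H "]" => Subgroup.normalizer (SetLike.coe H)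

variable {G : Type*} [Group G] [Finite G]

theorem not_alt7 {f : alternatingGroup (Fin 7) →* G} (h : Setup f) : False := by
  let mk : ∀ a b c d : Fin 7, a ≠ b → c ≠ d → alternatingGroup (Fin 7) := fun a b c d h1 h2 =>
    ⟨Equiv.swap a b * Equiv.swap c d, by simp [Equiv.Perm.mem_alternatingGroup, h1, h2]⟩
  have := h.comm Nat.prime_two Nat.prime_three (by decide) (k := 1) (l := 1)
    (a := mk 0 1 2 3 (by decide) (by decide)) (b := mk 4 5 5 6 (by decide) (by decide))
    (g := mk 0 1 1 2 (by decide) (by decide)) (Subtype.ext (by decide)) (Subtype.ext (by decide))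
    (Subtype.ext (by decide)) (fun e => absurd (congrArg Subtype.val e) (by decide))
    (fun e => absurd (congrArg Subtype.val e) (by decide)) (Subtype.ext (by decide))
  rcases eq_or_of_mem_zpowers (Subtype.ext (by decide)) this with e | e
  · exact absurd (congrArg Subtype.val e) (by decide)
  · exact absurd (congrArg Subtype.val e) (by decide)

theorem mem_zpowers_four {S : Type*} [Group S] {u y : S} (h : u ^ 4 = 1) (hy : y ∈ zpowers u) :
    y = 1 ∨ y = u ∨ y = u * u ∨ y = u * u * u := by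
  obtain ⟨k, rfl⟩ := hy
  have h4 : u ^ (4 : ℤ) = 1 := by exact_mod_cast h
  simp only
  rw [← Int.mul_ediv_add_emod k 4, _root_.zpow_add, _root_.zpow_mul, h4, _root_.one_zpow,
    one_mul]
  obtain e | e | e | e : k % 4 = 0 ∨ k % 4 = 1 ∨ k % 4 = 2 ∨ k % 4 = 3 := by omega
  all_goals rw [e]
  · exact Or.inl (zpow_zero _)
  · exact Or.inr (Or.inl (zpow_one _))
  · exact Or.inr (Or.inr (Or.inl (zpow_two _)))
  · exact Or.inr (Or.inr (Or.inr (by rw [← zpow_two, ← _root_.zpow_add_one]; rfl)))

theorem bip_four {S : Type*} [Group S] {u : S} (h : u ^ 4 = 1) : Bip (orderOf u) :=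
  (bip_pow Nat.prime_two 2).of_dvd (orderOf_dvd_of_pow_eq_one h)

open Chev.Suz in
theorem not_sz {F : Type*} [Field F] {m : ℕ} [Chev.SzField F m] {f : Sz F m →* G}
    (h : Setup f) : False := by
  have h2 : (2 : F) = 0 := two_eq_zero'
  obtain ⟨c, c0, c1⟩ : ∃ c : F, c ≠ 0 ∧ c ≠ 1 := by
    by_contra! hcon
    have := Nat.card_le_card_of_surjective (fun b : Bool => if b then (1 : F) else 0) fun c => by
      by_cases hc : c = 0
      · exact ⟨false, by simp [hc]⟩
      · exact ⟨true, by simp [hcon c hc]⟩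
    have h8 : 8 ≤ Nat.card F := eight_le_card
    simp at this
    omega
  have e2 : (uu (1 : F) 0 : Sz F m) * uu 1 0 = uu 0 1 := by
    rw [uu_mul, uu_inj]
    exact ⟨by linear_combination h2, by simp⟩
  have := h.pow (u := uu (1 : F) 0) (y := uu 0 1) (g := uu c 0) (bip_four (uu_pow_four _ _))
    (e2 ▸ mul_mem (mem_zpowers _) (mem_zpowers _)) (by simp [uu_eq_one])
    (by simp [uu_mul])
  have key : ∀ b : F, th F b = b → uu c 0 * uu (1 : F) 0 * (uu c 0)⁻¹ ≠ uu 1 b := by
    intro b hb e
    rw [mul_inv_eq_iff_eq_mul, uu_mul, uu_mul, uu_inj] at e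
    have e1 : th F c = b + c := by simpa using e.2
    have e3 : c ^ 2 = c := by
      rw [← th_th, e1, map_add, hb, e1]
      linear_combination b * h2
    exact c0 (mul_left_cancel₀ (sub_ne_zero.2 c1) (by linear_combination e3))
  have key' : ∀ b : F, uu c 0 * uu (1 : F) 0 * (uu c 0)⁻¹ ≠ uu 0 b := by
    intro b e
    rw [mul_inv_eq_iff_eq_mul, uu_mul, uu_mul, uu_inj] at e
    simpa using e.1
  rcases mem_zpowers_four (uu_pow_four _ _) this with e | e | e | e
  · exact key' 0 (e.trans (uu_eq_one.2 ⟨rfl, rfl⟩).symm)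
  · exact key 0 (map_zero _) e
  · exact key' 1 (e.trans e2)
  · exact key 1 (map_one _) (e.trans (by rw [e2, uu_mul]; simp))

theorem not_psl34 {F : Type*} [Field F] [Fintype F] (hF : Fintype.card F = 4)
    {f : PSL(3, F) →* G} (h : Setup f) : False := by
  have h2 : (2 : F) = 0 := by
    have := FiniteField.cast_card_eq_zero F
    rw [hF] at this
    exact pow_eq_zero_iff two_ne_zero |>.1 (by push_cast at this; linear_combination this)
  obtain ⟨c, c0, c1⟩ : ∃ c : F, c ≠ 0 ∧ c ≠ 1 := by
    by_contra! hcon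
    have := Fintype.card_le_of_surjective (fun b : Bool => if b then (1 : F) else 0) fun c => by
      by_cases hc : c = 0
      · exact ⟨false, by simp [hc]⟩
      · exact ⟨true, by simp [hcon c hc]⟩
    simp at this
    omega
  let U : F → F → F → SL(3, F) := fun a b c => ⟨!![1, a, b; 0, 1, c; 0, 0, 1], by
    simp [det_fin_three]⟩
  let V : F → F → F → PSL(3, F) := fun a b c => QuotientGroup.mk' _ (U a b c)
  have mulU : ∀ a b c a' b' c', U a b c * U a' b' c' = U (a + a') (b + b' + a * c') (c + c') := by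
    intro a b c a' b' c'
    ext i j
    rw [Matrix.SpecialLinearGroup.coe_mul]
    fin_cases i <;> fin_cases j <;> simp [U, Matrix.mul_apply, Fin.sum_univ_three] <;> ring
  have mulV : ∀ a b c a' b' c', V a b c * V a' b' c' = V (a + a') (b + b' + a * c') (c + c') := by
    intro a b c a' b' c'
    simp only [V, ← map_mul, mulU]
  have oneV : V 0 0 0 = 1 := by
    refine (congrArg (QuotientGroup.mk' (center SL(3, F))) (?_ : U 0 0 0 = 1)).trans (map_one _)
    ext i j
    fin_cases i <;> fin_cases j <;> simp [U]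
  have inj : ∀ a b c a' b' c', V a b c = V a' b' c' → a = a' ∧ b = b' := by
    intro a b c a' b' c' e
    obtain ⟨z, hz, e⟩ := (QuotientGroup.mk'_eq_mk' _).1 e
    obtain ⟨r, -, hr⟩ := Matrix.SpecialLinearGroup.mem_center_iff.1 hz
    have e' := congrArg Subtype.val e
    rw [Matrix.SpecialLinearGroup.coe_mul, ← hr] at e'
    have e0 := congrFun (congrFun e' 0) 0
    have e1 := congrFun (congrFun e' 0) 1
    have e2 := congrFun (congrFun e' 0) 2
    simp [U, Matrix.mul_apply, Fin.sum_univ_three] at e0 e1 e2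
    exact ⟨by simpa [e0] using e1, by simpa [e0] using e2⟩
  have h11 : (1 : F) + 1 = 0 := by linear_combination h2
  have e2 : V 1 0 1 * V 1 0 1 = V 0 1 0 := by simp [mulV, h11]
  have e4 : V 1 0 1 ^ 4 = 1 := by
    rw [show 4 = 2 * 2 from rfl, pow_mul, pow_two, pow_two, e2, mulV, ← oneV]
    simp [h11]
  have := h.pow (u := V 1 0 1) (y := V 0 1 0) (g := V c 0 0) (bip_four e4)
    (e2 ▸ mul_mem (mem_zpowers _) (mem_zpowers _))
    (fun e => one_ne_zero (inj _ _ _ _ _ _ (e.trans oneV.symm)).2) (by simp [mulV])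
  rcases mem_zpowers_four e4 this with e | e | e | e <;> rw [mul_inv_eq_iff_eq_mul] at e
  · rw [one_mul, mulV] at e
    simpa using (inj _ _ _ _ _ _ e).1
  · rw [mulV, mulV] at e
    exact c0 (by simpa using (inj _ _ _ _ _ _ e).2)
  · rw [e2, mulV, mulV] at e
    simpa using (inj _ _ _ _ _ _ e).1
  · rw [e2, mulV, mulV, mulV] at e
    exact c1 (by simpa using (inj _ _ _ _ _ _ e).2)

section PSL2

variable {F : Type*} [Field F] [Fintype F]

local notation "M₂" => Matrix (Fin 2) (Fin 2) F
local notation "C(" g ")" => Subgroup.centralizer ({g} : Set SL(2, F))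

theorem card_prime {f : PSL(2, F) →* G} (h : Setup f) : (Fintype.card F).Prime := by
  obtain ⟨p, _, n, hp, hn⟩ := FiniteField.card' F
  have := Fact.mk hp
  let u : F → SL(2, F) := upar 1 (one_pow 2)
  have mulu : ∀ a b, u a * u b = u (a + b) := fun a b => by
    ext i j
    fin_cases i <;> fin_cases j <;> simp [u, Matrix.mul_apply, add_comm]
  have powu : ∀ k : ℕ, u 1 ^ k = u k := fun k => by
    induction k with
    | zero => ext i j; fin_cases i <;> fin_cases j <;> simp [u]
    | succ k ih => rw [pow_succ, ih, mulu]; simp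
  have ns : ∀ b : F, b ≠ 0 → ¬ IsScal (u b : M₂) := fun b hb => upar_not_isScal _ _ hb
  have key : ∀ a : Fˣ, a ^ (2 * (p - 1)) = 1 := by
    intro a
    have hd : dg a * u 1 * (dg a)⁻¹ = u (a ^ 2) := by
      rw [mul_inv_eq_iff_eq_mul]
      ext i j
      fin_cases i <;> fin_cases j <;> simp [u, Matrix.mul_apply, pow_two]
    have hC : C(u (a ^ 2)) = C(u 1) := cent_eq_of_mem (ns 1 one_ne_zero) (ns _ (by simp))
      (mem_centralizer_singleton_iff.2 (by rw [mulu, mulu, add_comm]))
    have hc : (centralizer ({pr (u 1)} : Set PSL(2, F))).comap pr = C(u 1) :=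
      comap_centralizer_pr_eq_cent (by
        rw [trace_upar, mul_one]
        exact (em _).symm)
    have := h.cent (u := pr (u 1)) (d := pr (dg a)) (mt pr_eq_one_iff.1 (ns 1 one_ne_zero))
      ((bip_pow hp 1).of_dvd (orderOf_dvd_of_pow_eq_one (by
        rw [pow_one]
        exact pr_pow_char_eq_one p (by rw [trace_upar]; norm_num)))) fun s hs => by
        obtain ⟨s, rfl⟩ := pr_surjective s
        have h1 : s ∈ C(u 1) := hc ▸ mem_centralizer_singleton_iff.2 hs
        have h2 : dg a * s * (dg a)⁻¹ ∈ C(u (a ^ 2)) := by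
          rw [mem_centralizer_singleton_iff] at h1 ⊢
          rw [← hd]
          calc _ = dg a * (s * u 1) * (dg a)⁻¹ := by group
            _ = _ := by rw [h1]; group
        rw [hC, mem_centralizer_singleton_iff] at h2
        simp only [← map_inv, ← map_mul, h2]
    rw [← map_inv, ← map_mul, ← map_mul, hd, ← mem_powers_iff_mem_zpowers] at this
    obtain ⟨k, hk⟩ := this
    simp only [← map_pow, powu] at hk
    obtain ⟨z, hz⟩ : ∃ z : ℤ, (a : F) ^ 2 = z := by
      rcases pr_eq_pr_iff.1 hk with e | e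
      · exact ⟨k, by simpa [u] using (congrFun (congrFun (congrArg Subtype.val e) 0) 1).symm⟩
      · refine ⟨-k, ?_⟩
        have := congrFun (congrFun (congrArg Subtype.val e) 0) 1
        simp [u] at this
        simp [this]
    have e : ((a : F) ^ 2) ^ p = a ^ 2 := by
      rw [hz]
      exact map_intCast (frobenius F p) z
    ext
    refine mul_left_cancel₀ (pow_ne_zero 2 a.ne_zero) ?_
    rw [Units.val_pow_eq_pow_val, pow_mul, ← pow_succ', Nat.sub_add_cancel hp.one_le, e,
      Units.val_one, mul_one]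
  obtain ⟨a, ha⟩ := IsCyclic.exists_ofOrder_eq_natCard (α := Fˣ)
  have hd := orderOf_dvd_of_pow_eq_one (key a)
  rw [ha, Nat.card_units, Nat.card_eq_fintype_card, hn] at hd
  have h2 := hp.two_le
  have h1 := Nat.le_of_dvd (by omega) hd
  obtain ⟨n, hn0⟩ := n
  obtain rfl | hn2 : n = 1 ∨ 2 ≤ n := by omega
  · simpa [hn] using hp
  · have h3 : p ^ 2 ≤ p ^ n := Nat.pow_le_pow_right hp.pos hn2
    simp only [PNat.mk_coe] at h1
    have : 2 * p ≤ p ^ 2 := by nlinarith
    omega

theorem exists_torus (h2 : (2 : F) ≠ 0) {g : SL(2, F)} (hg : (g : M₂).trace ^ 2 ≠ 4) :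
    ∃ c s : PSL(2, F), pr g ∈ zpowers c ∧ s * s = 1 ∧ s * c * s⁻¹ = c⁻¹ ∧ s ∉ zpowers c ∧
      (2 * orderOf c + 1 = Fintype.card F ∨ 2 * orderOf c = Fintype.card F + 1) ∧
      Nat.card 𝐍[zpowers (pr g)] = 2 * orderOf c := by
  obtain ⟨w, hw⟩ := exists_inverting hg
  obtain ⟨c, hc⟩ := (Subgroup.isCyclic_iff_exists_zpowers_eq_top _).1 (isCyclic_cent hg)
  have hker : (pr : SL(2, F) →* _).ker ≤ zpowers c := by
    rw [hc]
    intro z hz
    rcases pr_eq_one_iff'.1 hz with rfl | rfl
    exacts [one_mem _, neg_one_mem_cent g]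
  have hcm : (zpowers (pr c)).comap pr = zpowers c := by
    rw [← MonoidHom.map_zpowers, comap_map_eq_self hker]
  have ho : 2 * orderOf (pr c) = Nat.card C(g) := by
    rw [← card_map_pr_mul (neg_one_mem_cent g), ← hc, MonoidHom.map_zpowers, Nat.card_zpowers,
      gcd_two_of_two_ne h2, mul_comm]
  have hcw : w * c * w⁻¹ = c⁻¹ :=
    conj_eq_inv_of_mem_cent (SL_not_isScal_of_trace hg) hw (hc ▸ mem_zpowers c)
  have hgc : pr g ∈ zpowers (pr c) := by
    rw [← mem_comap, hcm, hc]
    exact self_mem_cent g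
  refine ⟨pr c, pr w, hgc, pslMk_mul_self (trace_eq_zero_of_inverts hg hw),
    by rw [← map_inv, ← map_mul, ← map_mul, hcw, map_inv],
    fun h => not_mem_cent_of_inverts hg hw (hc ▸ hcm ▸ h), ?_, ?_⟩
  · rw [ho]
    have := Fintype.card_pos (α := F)
    rcases KSG.M2.card_cent_cases hg with ⟨-, e⟩ | ⟨-, e⟩ <;>
      rw [Nat.card_eq_fintype_card (α := F)] at e <;> omega
  · have e := normalizer_eq_of_le_cent hg (P := (zpowers (pr g)).comap pr) (mem_zpowers _)
      (hc ▸ hcm ▸ comap_mono (zpowers_le.2 hgc))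
    rw [← comap_normalizer_eq_of_surjective _ pr_surjective] at e
    have e2 := card_map_pr_mul (H := 𝐍[C(g)]) (le_normalizer (neg_one_mem_cent g))
    rw [card_normalizer_cent hg, ← e, map_comap_eq_self_of_surjective pr_surjective,
      gcd_two_of_two_ne h2] at e2
    omega

theorem exists_torus' (h2 : (2 : F) ≠ 0) {x : PSL(2, F)} (hx : ¬ orderOf x ∣ ringChar F) :
    ∃ c s : PSL(2, F), x ∈ zpowers c ∧ s * s = 1 ∧ s * c * s⁻¹ = c⁻¹ ∧ s ∉ zpowers c ∧
      (2 * orderOf c + 1 = Fintype.card F ∨ 2 * orderOf c = Fintype.card F + 1) ∧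
      Nat.card 𝐍[zpowers x] = 2 * orderOf c := by
  obtain ⟨g, rfl⟩ := pr_surjective x
  have := Fact.mk (CharP.char_is_prime F (ringChar F))
  exact exists_torus h2 fun e => hx (orderOf_dvd_of_pow_eq_one (pr_pow_char_eq_one _ e))

theorem ringChar_eq (hp : (Fintype.card F).Prime) : ringChar F = Fintype.card F := by
  have := Fact.mk hp
  exact ringChar.eq_iff.2 (charP_of_card_eq_prime rfl)

theorem conj_inv_of_mem {S : Type*} [Group S] {c s x : S} (h : s * c * s⁻¹ = c⁻¹)
    (hx : x ∈ zpowers c) : s * x * s⁻¹ = x⁻¹ := by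
  obtain ⟨k, rfl⟩ := hx
  simp only
  rw [← _root_.conj_zpow, h, _root_.inv_zpow]

theorem two_ne_of_prime (hp : (Fintype.card F).Prime) (h3 : 3 < Fintype.card F) :
    (2 : F) ≠ 0 :=
  two_ne_zero_of_odd (Nat.card_eq_fintype_card (α := F) ▸ hp.odd_of_ne_two (by omega))

theorem card_cases {f : PSL(2, F) →* G} (h : Setup f) (h3 : 3 < Fintype.card F) :
    Fintype.card F = 5 ∨ Fintype.card F = 7 ∨ Fintype.card F = 11 ∨ Fintype.card F = 13 := by
  have hp := card_prime h
  obtain ⟨x, hx⟩ := CIT.L2C.exists_three (F := F)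
  obtain ⟨c, s, xc, s2, sc, sn, hc, -⟩ := exists_torus' (two_ne_of_prime hp h3) (x := x) (by
    rw [hx, ringChar_eq hp, Nat.prime_dvd_prime_iff_eq Nat.prime_three hp]
    omega)
  have x3 : x ^ 3 = 1 := by rw [← hx, pow_orderOf_eq_one]
  have hs' : s⁻¹ = s := inv_eq_of_mul_eq_one_right s2
  have h3c : 3 ∣ orderOf c := hx ▸ orderOf_dvd_of_mem_zpowers xc
  have h6 : orderOf c ∣ 6 := by
    rcases h.dih Nat.prime_three (k := 1) (g := c) x3 (fun e => by
      have := orderOf_dvd_of_pow_eq_one (x := x) (n := 2) (by rw [pow_two, e])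
      rw [hx] at this
      omega) s2 (conj_inv_of_mem sc xc) (by
        obtain ⟨k, rfl⟩ := xc
        exact (Commute.refl c).zpow_right k) with e | e
    · have := mul_mem (mul_mem (inv_mem (mem_zpowers c)) (zpowers_le.2 xc e)) (mem_zpowers c)
      exact absurd (by simpa [mul_assoc] using this) sn
    · have e1 : c * s * c⁻¹ * s = c ^ 2 := by
        calc c * s * c⁻¹ * s = c * (s * c * s⁻¹)⁻¹ := by
              rw [_root_.mul_inv_rev, _root_.mul_inv_rev, inv_inv, hs']; group
          _ = _ := by rw [sc, inv_inv, pow_two]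
      have := orderOf_dvd_of_mem_zpowers e
      rw [hx, e1, orderOf_dvd_iff_pow_eq_one, ← pow_mul] at this
      exact orderOf_dvd_of_pow_eq_one this
  have := Nat.le_of_dvd (by decide) h6
  have : orderOf c = 3 ∨ orderOf c = 6 := by
    have := orderOf_pos c
    interval_cases orderOf c <;> omega
  omega

theorem not_five_seven {f : PSL(2, F) →* G} (h : Setup f)
    (hF : Fintype.card F = 5 ∨ Fintype.card F = 7) : False := by
  have h2 : (2 : F) ≠ 0 := two_ne_of_prime (card_prime h) (by omega)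
  obtain ⟨a, b, w, K, e1, e2, -⟩ := exists_klein h2
  obtain ⟨c, D⟩ := exists_dih h2 K.ne_one_left K.sq_left
  have hle : K.sub ≤ centralizer {a} := fun y hy => mem_centralizer_singleton_iff.2 (by
    rcases K.mem_sub.1 hy with rfl | rfl | rfl | rfl
    · simp
    · rfl
    · exact K.comm.symm
    · rw [mul_assoc, K.comm])
  have hc := D.card
  have hi := card_mul_index (K.sub.subgroupOf (centralizer {a}))
  rw [Nat.card_congr (subgroupOfEquivOfLe hle).toEquiv, K.isKleinFour.card_four] at hi
  rw [top_inf_eq, Nat.card_eq_fintype_card (α := F)] at hc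
  have hn : (K.sub.subgroupOf (centralizer {a})).Normal := by
    rcases hF with e | e <;> rw [e, ← hi] at hc <;> norm_num [JTW.sv] at hc
    · exact normal_of_index_eq_one (by simpa using hc)
    · exact normal_of_index_eq_two (by omega)
  exact h.klein K e1 e2 fun g hg => (mem_normalizer_iff.1 ((normal_subgroupOf_iff_le_normalizer
    hle).1 hn (mem_centralizer_singleton_iff.2 hg)) b).1 (K.mem_sub.2 (by simp))

theorem surj_of {f : PSL(2, F) →* G} (h : Setup f)
    (hF : Fintype.card F = 11 ∨ Fintype.card F = 13) : Function.Surjective f := by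
  have h2 : (2 : F) ≠ 0 := two_ne_of_prime (card_prime h) (by omega)
  obtain ⟨a, b, w, K, -⟩ := exists_klein h2
  refine h.surj (fun s s1 s2 => ?_) K.ne_one_left K.sq_left
  have := exists_dih h2 s1 s2
  rw [Nat.card_eq_fintype_card] at this
  rcases hF with e | e <;> rw [e] at this <;> exact this

theorem not_eleven (h : Hyp PSL(2, F)) (hF : Fintype.card F = 11) : False := by
  have hp : (Fintype.card F).Prime := by rw [hF]; norm_num
  have := Fact.mk Nat.prime_five
  obtain ⟨x, hx⟩ := exists_prime_orderOf_dvd_card' (G := PSL(2, F)) 5 (by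
    rw [card_PSL_eq hF (n := 660) (by norm_num)]; norm_num)
  obtain ⟨c, s, xc, s2, sc, sn, hc, hN⟩ := exists_torus' (two_ne_of_prime hp (by omega)) (x := x)
    (by rw [hx, ringChar_eq hp, hF]; norm_num)
  have h5 : 5 ∣ orderOf c := hx ▸ orderOf_dvd_of_mem_zpowers xc
  have hc5 : orderOf c = 5 := by omega
  obtain ⟨e⟩ := Inv.Dihedral.nonempty_closure_equiv_dihedral (by decide) hc5 s2 sc sn
  refine not_isCoatom_dihedral_small e (by simp [hF]) ?_
  have : closure {c, s} = 𝐍[zpowers x] := by
    refine eq_of_le_of_card_ge ((closure_le _).2 ?_) (by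
      rw [hN, hc5, Nat.card_congr e.toEquiv, DihedralGroup.nat_card])
    rintro _ (rfl | rfl)
    · refine mem_normalizer_of_commute ?_
      obtain ⟨k, rfl⟩ := xc
      exact (Commute.refl _).zpow_right k
    · exact mem_normalizer_zpowers.2 (conj_inv_of_mem sc xc ▸ inv_mem (mem_zpowers x))
  rw [this]
  exact h _ (zpowers_ne_bot.2 fun e => by simp [e] at hx)
    (bip_zpowers Nat.prime_five (k := 1) (by rw [pow_one, ← hx, pow_orderOf_eq_one]))

theorem psl2_case {f : PSL(2, F) →* G} (h : Setup f) (h3 : 3 < Fintype.card F) :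
    Fintype.card F = 13 ∧ Function.Surjective f := by
  rcases card_cases h h3 with e | e | e | e
  · exact (not_five_seven h (Or.inl e)).elim
  · exact (not_five_seven h (Or.inr e)).elim
  · exact (not_eleven (h.hyp.of_equiv (MulEquiv.ofBijective f
      ⟨h.inj, surj_of h (Or.inl e)⟩).symm) e).elim
  · exact ⟨e, surj_of h (Or.inr e)⟩

end PSL2

end Cfsg.Agent.MaxN
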